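import Cfsg.Prelude.Def_BaumannBlocks
import Cfsg.Agent.Lib.PLocal.Thompson
import Cfsg.Agent.Lib.Large.Tools
import Cfsg.Agent.Lib.Isolated.LocalCentral
import Cfsg.Agent.Lib.Transfer.Basic
import Cfsg.Agent.Lib.H82.ThreeSubgroup

/-!
Baumann subgroups and `B(T)`-blocks: weak closure of `B(T)`, `O^p` of subgroups, and the lemma
that `p`-subgroups normalized by `B(T)` and by a block normalize the block.
-/

set_option autoImplicit false

namespace CfsgLib.Baumann

open Cfsg Subgroup CfsgLib.Large CfsgLib.PLocal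
open scoped commutatorElement

variable {G : Type*} [Group G] {p : ℕ}

/-! ### `O^p` of a subgroup -/

theorem pResidualOf_le (E : Subgroup G) : pResidualOf p E ≤ E := Subgroup.map_subtype_le _

theorem pResidualOf_le_iff {E H : Subgroup G} :
    pResidualOf p E ≤ H ↔ ∀ e ∈ E, (orderOf e).Coprime p → e ∈ H := by
  rw [pResidualOf, Subgroup.map_le_iff_le_comap, CfsgLib.Transfer.pResidual_le_iff]
  constructor
  · intro h e he hc
    exact h ⟨e, he⟩ (by rwa [Subgroup.orderOf_mk])
  · intro h e hc
    exact h e e.2 (by rwa [Subgroup.orderOf_coe])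

theorem mem_pResidualOf {E : Subgroup G} {e : G} (he : e ∈ E) (hc : (orderOf e).Coprime p) :
    e ∈ pResidualOf p E :=
  pResidualOf_le_iff.1 le_rfl e he hc

theorem pResidualOf_mono {E X : Subgroup G} (h : E ≤ X) : pResidualOf p E ≤ pResidualOf p X :=
  pResidualOf_le_iff.2 fun _ he hc => mem_pResidualOf (h he) hc

/-- A subgroup equal to its `O^p` lies in `H` as soon as its `p'`-elements do. -/
theorem le_of_residual {E H : Subgroup G} (hE : pResidualOf p E = E)
    (h : ∀ e ∈ E, (orderOf e).Coprime p → e ∈ H) : E ≤ H :=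
  hE.ge.trans (pResidualOf_le_iff.2 h)

theorem orderOf_conj_eq (g x : G) : orderOf (g * x * g⁻¹) = orderOf x := by
  simpa using orderOf_injective (MulAut.conj g).toMonoidHom (MulAut.conj g).injective x

theorem pResidualOf_cj (E : Subgroup G) (g : G) :
    pResidualOf p (E.map (MulAut.conj g).toMonoidHom) =
      (pResidualOf p E).map (MulAut.conj g).toMonoidHom := by
  refine le_antisymm (pResidualOf_le_iff.2 fun x hx hc => ?_) ?_
  · rw [mem_cj] at hx ⊢
    refine mem_pResidualOf hx ?_
    have := orderOf_conj_eq g⁻¹ x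
    rw [inv_inv] at this
    rwa [this]
  · rw [Subgroup.map_le_iff_le_comap, pResidualOf_le_iff]
    intro x hx hc
    exact mem_pResidualOf ⟨x, hx, rfl⟩ (by
      have : (MulAut.conj g).toMonoidHom x = g * x * g⁻¹ := rfl
      rw [this, orderOf_conj_eq]; exact hc)

section Finite

variable [Finite G] [Fact p.Prime]

/-- `E = O^p(E)` is `O^p` of its product with a `p`-group normalizing it. -/
theorem pResidualOf_sup {E D : Subgroup G} (hE : pResidualOf p E = E) (hD : IsPGroup p D)
    (hn : D ≤ normalizer (E : Set G)) : pResidualOf p (E ⊔ D) = E := by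
  refine le_antisymm ?_ (hE.ge.trans (pResidualOf_mono le_sup_left))
  have hX : E ⊔ D ≤ normalizer (E : Set G) := sup_le le_normalizer hn
  set X := E ⊔ D with hXdef
  haveI hEn : (E.subgroupOf X).Normal :=
    (Subgroup.normal_subgroupOf_iff_le_normalizer le_sup_left).2 hX
  have hq : IsPGroup p (↥X ⧸ E.subgroupOf X) := by
    let f : ↥D →* ↥X ⧸ E.subgroupOf X :=
      (QuotientGroup.mk' _).comp (Subgroup.inclusion le_sup_right)
    refine hD.of_surjective f fun y => ?_
    induction y using QuotientGroup.induction_on with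
    | H x =>
      have hx : (x : G) ∈ ((D ⊔ E : Subgroup G) : Set G) := by rw [sup_comm]; exact x.2
      rw [Subgroup.coe_mul_of_left_le_normalizer_right D E hn] at hx
      obtain ⟨d, hd, e, he, hde⟩ := hx
      refine ⟨⟨d, hd⟩, (QuotientGroup.eq).2 ?_⟩
      rw [Subgroup.mem_subgroupOf]
      simpa [← hde] using he
  intro x hx
  obtain ⟨y, hy, rfl⟩ := hx
  exact Subgroup.mem_subgroupOf.1 (CfsgLib.Transfer.pResidual_le_of_isPGroup_quotient _ hq hy)

/-- If `E = O^p(E)` and `x` normalizes `E D`, with `D` a `p`-group normalizing `E`, then `x`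
normalizes `E`. -/
theorem mem_normalizer_of_conj_le_sup {E D : Subgroup G} (hE : pResidualOf p E = E)
    (hD : IsPGroup p D) (hn : D ≤ normalizer (E : Set G)) {x : G}
    (h : ∀ e ∈ E, x * e * x⁻¹ ∈ E ⊔ D) : x ∈ normalizer (E : Set G) := by
  refine mem_normalizer_iff_cj.2 (Subgroup.eq_of_le_of_card_ge ?_
    (Subgroup.card_map_of_injective (MulAut.conj x).injective).ge)
  conv_lhs => rw [← hE, ← pResidualOf_cj]
  exact (pResidualOf_mono (cj_le_iff.2 h)).trans (pResidualOf_sup hE hD hn).le

end Finite

/-! ### Commutators relative to a normalized subgroup -/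

theorem commutator_le_iff' {H K L : Subgroup G} :
    ⁅H, K⁆ ≤ L ↔ ∀ h ∈ H, ∀ k ∈ K, h * k * h⁻¹ * k⁻¹ ∈ L :=
  Subgroup.commutator_le

theorem conj_mul_mem_of_commutator_le {H K L : Subgroup G} (h : ⁅H, K⁆ ≤ L) {x y : G}
    (hx : x ∈ H) (hy : y ∈ K) : x * y * x⁻¹ * y⁻¹ ∈ L :=
  h (Subgroup.commutator_mem_commutator hx hy)

theorem commutator_le_of_normalizes {H K : Subgroup G} (h : H ≤ normalizer (K : Set G)) :
    ⁅H, K⁆ ≤ K :=
  Subgroup.le_normalizer_iff_commutator_le_right.mp h

/-- Three subgroup lemma modulo a subgroup normalized by the three subgroups. -/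
theorem three_subgroup {A B C N : Subgroup G} (hA : A ≤ normalizer (N : Set G))
    (hB : B ≤ normalizer (N : Set G)) (hC : C ≤ normalizer (N : Set G))
    (h1 : ⁅⁅B, C⁆, A⁆ ≤ N) (h2 : ⁅⁅C, A⁆, B⁆ ≤ N) : ⁅⁅A, B⁆, C⁆ ≤ N := by
  set M := normalizer (N : Set G) with hM
  haveI : (N.subgroupOf M).Normal :=
    (Subgroup.normal_subgroupOf_iff_le_normalizer le_normalizer).2 le_rfl
  have key : ∀ {X Y Z : Subgroup G}, X ≤ M → Y ≤ M → Z ≤ M →
      (⁅⁅X.subgroupOf M, Y.subgroupOf M⁆, Z.subgroupOf M⁆ ≤ N.subgroupOf M ↔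
        ⁅⁅X, Y⁆, Z⁆ ≤ N) := by
    intro X Y Z hX hY hZ
    rw [← Subgroup.map_le_map_iff_of_injective M.subtype_injective, Subgroup.map_commutator,
      Subgroup.map_commutator, Subgroup.map_subgroupOf_eq_of_le hX,
      Subgroup.map_subgroupOf_eq_of_le hY, Subgroup.map_subgroupOf_eq_of_le hZ,
      Subgroup.map_subgroupOf_eq_of_le (le_normalizer (H := N))]
  exact (key hA hB hC).1 (CfsgLib.ThreeSub82.commutator_commutator_le_of_rotate (N.subgroupOf M)
    ((key hB hC hA).2 h1) ((key hC hA hB).2 h2))

theorem three_subgroup_bot {A B C : Subgroup G} (h1 : ⁅⁅B, C⁆, A⁆ = ⊥) (h2 : ⁅⁅C, A⁆, B⁆ = ⊥) :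
    ⁅⁅A, B⁆, C⁆ = ⊥ :=
  Subgroup.commutator_commutator_eq_bot_of_rotate h1 h2

theorem le_normalizer_commutator_left (H K : Subgroup G) :
    H ≤ normalizer ((⁅H, K⁆ : Subgroup G) : Set G) :=
  Subgroup.normalizer_commutator_ge_left H K

theorem le_normalizer_commutator_right (H K : Subgroup G) :
    K ≤ normalizer ((⁅H, K⁆ : Subgroup G) : Set G) :=
  Subgroup.normalizer_commutator_ge_right H K

/-! ### The Baumann subgroup -/

theorem baumannSubgroupOf_le (T : Subgroup G) : baumannSubgroupOf p T ≤ T := inf_le_left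

theorem baumannSubgroupOf_eq (T : Subgroup G) :
    baumannSubgroupOf p T = T ⊓ centralizer (omegaOne p (centerJ p T) : Set G) := by
  rw [baumannSubgroupOf, centerThompsonOf_eq]

theorem thompson_le_baumann (T : Subgroup G) : thompson p T ≤ baumannSubgroupOf p T := by
  rw [baumannSubgroupOf_eq]
  refine le_inf (thompson_le p T) fun a ha => ?_
  exact fun z hz => ((omegaOne_le p (centerJ p T) hz).2 a ha).symm

theorem baumann_le_normalizer (T : Subgroup G) :
    T ≤ normalizer (baumannSubgroupOf p T : Set G) := by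
  rw [baumannSubgroupOf_eq]
  refine le_trans (le_inf le_normalizer ?_) normalizer_le_normalizer_inf
  refine ((le_normalizer_centerJ p T).trans (normalizer_le_normalizer_omegaOne p _)).trans
    fun g hg => ?_
  rw [Subgroup.mem_normalizer_iff]
  intro c
  refine ⟨fun hc => conj_mem_centralizer_of_normalizer hg hc, fun hc => ?_⟩
  have := conj_mem_centralizer_of_normalizer (inv_mem hg) hc
  simpa [mul_assoc] using this

section Finite

variable [Finite G]

theorem thompson_cj_le_self (T : Sylow p G) (g : G) :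
    thompson p (((T : Subgroup G)).map (MulAut.conj g).toMonoidHom) =
      (thompson p (T : Subgroup G)).map (MulAut.conj g).toMonoidHom :=
  thompson_map (MulAut.conj g).injective _

variable [Fact p.Prime]

/-- The Thompson subgroup and the Baumann subgroup are the same in every Sylow subgroup
containing `B(T)`. -/
theorem eq_of_baumann_le {T T' : Sylow p G}
    (h : baumannSubgroupOf p (T : Subgroup G) ≤ (T' : Subgroup G)) :
    thompson p (T' : Subgroup G) = thompson p (T : Subgroup G) ∧
      baumannSubgroupOf p (T' : Subgroup G) = baumannSubgroupOf p (T : Subgroup G) := by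
  obtain ⟨g, hg⟩ := MulAction.exists_smul_eq G T T'
  have hT' : (T' : Subgroup G) = (T : Subgroup G).map (MulAut.conj g).toMonoidHom := by
    rw [← hg, Sylow.coe_subgroup_smul, Subgroup.pointwise_smul_def]; rfl
  have hJle : thompson p (T : Subgroup G) ≤ (T' : Subgroup G) :=
    (thompson_le_baumann _).trans h
  have hJ : thompson p (T' : Subgroup G) = thompson p (T : Subgroup G) := by
    refine (Subgroup.eq_of_le_of_card_ge ?_ ?_).symm
    · rw [thompson_le_iff]
      intro A hA
      obtain ⟨A', hA'⟩ := exists_isMaxElemIn p (T' : Subgroup G)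
      refine IsMaxElemIn.le_thompson ⟨hA.le_thompson.trans hJle, hA.elem, fun B hB hB' => ?_⟩
      have hsub : B.map (MulAut.conj g⁻¹).toMonoidHom ≤ (T : Subgroup G) := by
        refine (map_mono hB).trans_eq ?_
        rw [hT', cj_inv_cj]
      have := hA.2.2 _ hsub (elemAb_map _ hB')
      rwa [Subgroup.card_map_of_injective (MulAut.conj g⁻¹).injective] at this
    · rw [hT', thompson_cj_le_self,
        Subgroup.card_map_of_injective (MulAut.conj g).injective]
  refine ⟨hJ, (Subgroup.eq_of_le_of_card_ge ?_ ?_).symm⟩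
  · rw [baumannSubgroupOf_eq (T' : Subgroup G)]
    refine le_inf h ?_
    rw [show centerJ p (T' : Subgroup G) = centerJ p (T : Subgroup G) by
      unfold centerJ; rw [hJ], baumannSubgroupOf_eq]
    exact inf_le_right
  · have e : baumannSubgroupOf p (T' : Subgroup G) =
        (baumannSubgroupOf p (T : Subgroup G)).map (MulAut.conj g).toMonoidHom := by
      rw [baumannSubgroupOf_eq, baumannSubgroupOf_eq, hT', Subgroup.map_inf _ _ _
        (MulAut.conj g).injective]
      congr 1
      have h1 : centerJ p ((T : Subgroup G).map (MulAut.conj g).toMonoidHom) =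
          (centerJ p (T : Subgroup G)).map (MulAut.conj g).toMonoidHom :=
        centerJ_map (MulAut.conj g).injective _
      have h2 : omegaOne p ((centerJ p (T : Subgroup G)).map (MulAut.conj g).toMonoidHom) =
          (omegaOne p (centerJ p (T : Subgroup G))).map (MulAut.conj g).toMonoidHom :=
        omegaOne_map (f := ((MulAut.conj g).toMonoidHom)) (MulAut.conj g).injective _
      rw [h1, h2]
      ext x
      rw [mem_cj]
      simp only [Subgroup.mem_centralizer_iff, SetLike.mem_coe, mem_cj]
      constructor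
      · intro hx z hz
        have := hx (g * z * g⁻¹) (by simpa [mul_assoc] using hz)
        calc z * (g⁻¹ * x * g) = g⁻¹ * ((g * z * g⁻¹) * x) * g := by group
          _ = g⁻¹ * (x * (g * z * g⁻¹)) * g := by rw [this]
          _ = g⁻¹ * x * g * z := by group
      · intro hx z hz
        have := hx _ hz
        calc z * x = g * ((g⁻¹ * z * g) * (g⁻¹ * x * g)) * g⁻¹ := by group
          _ = g * ((g⁻¹ * x * g) * (g⁻¹ * z * g)) * g⁻¹ := by rw [this]
          _ = x * z := by group
    rw [e, Subgroup.card_map_of_injective (MulAut.conj g).injective]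

/-- A `p`-subgroup containing `B(T)` normalizes it. -/
theorem le_normalizer_baumann {T : Sylow p G} {R : Subgroup G} (hR : IsPGroup p R)
    (h : baumannSubgroupOf p (T : Subgroup G) ≤ R) :
    R ≤ normalizer (baumannSubgroupOf p (T : Subgroup G) : Set G) := by
  obtain ⟨T', hT'⟩ := hR.exists_le_sylow
  rw [← (eq_of_baumann_le (h.trans hT')).2]
  exact hT'.trans (baumann_le_normalizer _)

theorem baumann_le_normalizer_of_block {T : Sylow p G} {E : Subgroup G}
    (hEB : ⁅E, baumannSubgroupOf p (T : Subgroup G)⁆ = E) :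
    baumannSubgroupOf p (T : Subgroup G) ≤ normalizer (E : Set G) :=
  (le_normalizer_commutator_right E _).trans_eq (by rw [hEB])

/-- A `p`-subgroup normalized by `B(T)` and by a subgroup `E = O^p(E) = [E, B(T)]`
normalizes `E`. -/
theorem le_normalizer_of_invariant {T : Sylow p G} {E Q : Subgroup G}
    (hE : pResidualOf p E = E) (hEB : ⁅E, baumannSubgroupOf p (T : Subgroup G)⁆ = E)
    (hQ : IsPGroup p Q) (hBQ : baumannSubgroupOf p (T : Subgroup G) ≤ normalizer (Q : Set G))
    (hEQ : E ≤ normalizer (Q : Set G)) : Q ≤ normalizer (E : Set G) := by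
  set B := baumannSubgroupOf p (T : Subgroup G) with hB
  have hBE : B ≤ normalizer (E : Set G) := baumann_le_normalizer_of_block hEB
  have hBp : IsPGroup p B := T.isPGroup'.to_le (baumannSubgroupOf_le _)
  have hQB : Q ≤ normalizer (B : Set G) :=
    le_sup_right.trans (le_normalizer_baumann (isPGroup_sup hBp hQ hBQ) le_sup_left)
  set Q₀ := Q ⊓ normalizer (E : Set G) with hQ₀
  by_contra hne
  have hlt : Q₀ < Q := lt_of_le_of_ne inf_le_left fun h => hne (inf_eq_left.1 h)
  obtain ⟨x, hx, hxQ₀⟩ := SetLike.exists_of_lt (CfsgLib.Isolated.lt_inf_normalizer hQ hlt)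
  set Q₁ := Q ⊓ normalizer (Q₀ : Set G) with hQ₁
  have hE0 : E ≤ normalizer (Q₀ : Set G) :=
    (le_inf hEQ (le_normalizer.trans le_normalizer)).trans normalizer_le_normalizer_inf
  have hB0 : B ≤ normalizer (Q₀ : Set G) :=
    (le_inf hBQ (hBE.trans le_normalizer)).trans normalizer_le_normalizer_inf
  have hE1 : E ≤ normalizer (Q₁ : Set G) :=
    (le_inf hEQ (hE0.trans le_normalizer)).trans normalizer_le_normalizer_inf
  have h1 : ⁅⁅E, B⁆, Q₁⁆ ≤ Q₀ := by
    refine three_subgroup hE0 hB0 inf_le_right ?_ ?_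
    · refine (Subgroup.commutator_mono ?_ le_rfl).trans
        ((Subgroup.commutator_comm _ _).le.trans (commutator_le_of_normalizes hE0))
      refine le_inf ?_ ?_
      · exact (Subgroup.commutator_mono le_rfl inf_le_left).trans
          (commutator_le_of_normalizes hBQ)
      · exact ((Subgroup.commutator_mono le_rfl inf_le_left).trans
          ((Subgroup.commutator_comm _ _).le.trans (commutator_le_of_normalizes hQB))).trans hBE
    · refine (Subgroup.commutator_mono
        ((Subgroup.commutator_comm _ _).le.trans (commutator_le_of_normalizes hE1))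
        (le_refl B)).trans (le_inf ?_ ?_)
      · exact (Subgroup.commutator_mono inf_le_left le_rfl).trans
          ((Subgroup.commutator_comm _ _).le.trans (commutator_le_of_normalizes hBQ))
      · exact ((Subgroup.commutator_mono inf_le_left le_rfl).trans
          (commutator_le_of_normalizes hQB)).trans hBE
  rw [hEB] at h1
  refine hxQ₀ ⟨hx.1, mem_normalizer_of_conj_le_sup hE (hQ.to_le inf_le_left) inf_le_right
    fun e he => ?_⟩
  have h2 : e * x * e⁻¹ * x⁻¹ ∈ Q₀ := conj_mul_mem_of_commutator_le h1 he ⟨hx.1, hx.2⟩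
  have h3 : x * e * x⁻¹ = (e * x * e⁻¹ * x⁻¹)⁻¹ * e := by group
  rw [h3]
  exact mul_mem (le_sup_right (a := E) (inv_mem h2)) (le_sup_left (b := Q₀) he)

end Finite

end CfsgLib.Baumann
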