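import Cfsg.Agent.Lib.LocalEven.Baumann.Semilinear
import Cfsg.Agent.Lib.LocalEven.Baumann.Link

/-!
A block normalized by an offender and normalizing a larger one has a module covering the module
of the larger one.
-/

set_option autoImplicit false

namespace CfsgLib.Baumann

open Cfsg Subgroup Matrix CfsgLib.PLocal CfsgLib.Large
open scoped MatrixGroups commutatorElement

variable {G : Type*} [Group G] [Finite G] {p : ℕ} [hp : Fact p.Prime] {T T' : Sylow p G}
  {E F : Subgroup G}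

/-- Two vectors that are independent span the plane. -/
theorem exists_combination {K : Type} [Field K] [Fintype K] {u v : Fin 2 → K}
    (hv : v ≠ 0) (hu : ∀ c : K, u ≠ c • v) (w : Fin 2 → K) : ∃ a b : K, w = a • u + b • v := by
  have hinj : Function.Injective fun x : K × K => x.1 • u + x.2 • v := by
    rintro ⟨a, b⟩ ⟨a', b'⟩ h
    simp only at h
    have h1 : (a - a') • u = (b' - b) • v := by
      rw [sub_smul, sub_smul, sub_eq_sub_iff_add_eq_add]
      rw [h]; exact add_comm _ _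
    have ha : a = a' := by
      by_contra hne
      refine hu ((a - a')⁻¹ * (b' - b)) ?_
      rw [mul_smul, ← h1, smul_smul, inv_mul_cancel₀ (sub_ne_zero.2 hne), one_smul]
    subst ha
    rw [sub_self, zero_smul, eq_comm, smul_eq_zero, or_iff_left hv, sub_eq_zero] at h1
    rw [h1]
  have hbij := (Nat.bijective_iff_injective_and_card (fun x : K × K => x.1 • u + x.2 • v)).2
    ⟨hinj, by rw [Nat.card_prod, natCard_fin_two, Nat.card_eq_fintype_card, pow_two]⟩
  obtain ⟨⟨a, b⟩, hab⟩ := hbij.2 w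
  exact ⟨a, b, hab.symm⟩

/-- The module of `F` covers the module of `E`. -/
theorem cover_of_offender (hG : centralizer (pCore p G : Set G) ≤ pCore p G)
    (hE : IsBaumannBlock p (T : Subgroup G) E)
    (hF : IsBaumannBlock p (T' : Subgroup G) F) (h2 : p ≠ 2) (hXX : x1 p F ≤ x1 p E)
    (hFE : F ≤ normalizer (E : Set G)) (h00 : x0 p F ≤ x0 p E)
    (hXT : x1 p E ≤ (T' : Subgroup G))
    (hJE : thompson p (T' : Subgroup G) ≤ normalizer (E : Set G)) :
    ∀ w ∈ x1 p E, ∃ x ∈ x1 p F, w * x⁻¹ ∈ x0 p E := by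
  obtain ⟨K, _, _, _, ⟨d⟩⟩ := (nat_x1 hE).exists_lin h2
  have hco : commutator SL(2, K) = ⊤ ∨ (2 : K) ≠ 0 := Or.inr (two_ne_zero_of_charP hp.out h2)
  have hJF : thompson p (T' : Subgroup G) ≤ normalizer (F : Set G) :=
    (thompson_le_baumann _).trans (baumann_le_normalizer_of_block (block_commutator hF))
  -- an offender moving the module of `F`
  obtain ⟨A, hA, hAX⟩ : ∃ A, IsMaxElemIn p (T' : Subgroup G) A ∧
      ¬ A ≤ centralizer (x1 p F : Set G) := by
    by_contra hno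
    push Not at hno
    exact not_centralizes_thompson hF (thompson_le_iff.2 hno)
  have hAE : A ≤ normalizer (E : Set G) := hA.le_thompson.trans hJE
  have hAF : A ≤ normalizer (F : Set G) := hA.le_thompson.trans hJF
  have hAn : ∀ b ∈ A, b ∈ d.sec.norm := fun b hb => mem_norm_x (hAE hb)
  have hlin : ∀ b (hb : b ∈ A), ∀ (c : K) v, d.sec.act ⟨b, hAn b hb⟩ (c • v) =
      c • d.sec.act ⟨b, hAn b hb⟩ v := fun b hb => d.maxElem_linear hE hco hA hXT hAE hb _
  have hquad : ∀ b (hb : b ∈ A), ∀ v, d.sec.act ⟨b, hAn b hb⟩ (d.sec.act ⟨b, hAn b hb⟩ v - v) =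
      d.sec.act ⟨b, hAn b hb⟩ v - v := fun b hb =>
    (d.unipotent (g := ⟨b, hAn b hb⟩) (k := 1) (by rw [pow_one]; exact hA.elem.2 b hb)
      (hlin b hb)).1
  obtain ⟨a, ha, haX⟩ := SetLike.not_le_iff_exists.1 hAX
  obtain ⟨w₀, hw₀⟩ : ∃ w₀, d.sec.act ⟨a, hAn a ha⟩ w₀ ≠ w₀ := by
    by_contra hno
    push Not at hno
    exact haX (Subgroup.centralizer_le (SetLike.coe_subset_coe.2 hXX)
      (centralizes_of_triv hE (hAE ha) ((d.sec.triv_iff ⟨a, hAn a ha⟩).2 hno)))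
  set e₁ := d.sec.act ⟨a, hAn a ha⟩ w₀ - w₀ with he₁
  have he₁0 : e₁ ≠ 0 := sub_ne_zero.2 hw₀
  have hae₁ : d.sec.act ⟨a, hAn a ha⟩ e₁ = e₁ := hquad a ha w₀
  have hw₀e : ∀ c : K, w₀ ≠ c • e₁ := fun c hc => hw₀ (by rw [hc, hlin a ha, hae₁])
  have hspan := exists_combination he₁0 hw₀e
  -- fixed points of `a`
  have hfix : ∀ v, d.sec.act ⟨a, hAn a ha⟩ v = v → ∃ c : K, v = c • e₁ := by
    intro v hv
    obtain ⟨x, y, rfl⟩ := hspan v
    refine ⟨y, ?_⟩
    rw [map_add, hlin a ha, hlin a ha, hae₁, add_left_inj] at hv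
    have h1 : x • e₁ = 0 := by rw [he₁, smul_sub, hv, sub_self]
    rw [smul_eq_zero, or_iff_left he₁0] at h1
    rw [h1, zero_smul, zero_add]
  -- every element of `A` moves along the line
  have hAL : ∀ b (hb : b ∈ A), d.sec.act ⟨b, hAn b hb⟩ e₁ = e₁ ∧
      ∀ v, ∃ c : K, d.sec.act ⟨b, hAn b hb⟩ v - v = c • e₁ := by
    intro b hb
    set β := d.sec.act ⟨b, hAn b hb⟩
    have hab : ∀ v, d.sec.act ⟨a, hAn a ha⟩ (β v) = β (d.sec.act ⟨a, hAn a ha⟩ v) := fun v => by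
      simp only [β, ← d.sec.act_mul]
      rw [show (⟨a, hAn a ha⟩ : ↥d.sec.norm) * ⟨b, hAn b hb⟩ = ⟨b, hAn b hb⟩ * ⟨a, hAn a ha⟩ from
        Subtype.ext (elemAb_commute hA.elem ha hb)]
    obtain ⟨c, hc⟩ := hfix (β e₁ - e₁) (by rw [map_sub, hab, hae₁])
    have hc0 : c = 0 := by
      have h1 := hquad b hb e₁
      rw [show d.sec.act ⟨b, hAn b hb⟩ e₁ - e₁ = c • e₁ from hc, hlin b hb] at h1
      have h3 : c • (β e₁ - e₁) = 0 := by rw [smul_sub, h1, sub_self]
      rw [hc, smul_smul, smul_eq_zero, or_iff_left he₁0, mul_self_eq_zero] at h3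
      exact h3
    have hbe : β e₁ = e₁ := sub_eq_zero.1 (by rw [hc, hc0, zero_smul])
    refine ⟨hbe, fun v => ?_⟩
    have hlinN : ∀ x y : K, β (x • w₀ + y • e₁) - (x • w₀ + y • e₁) = x • (β w₀ - w₀) := fun x y => by
      show d.sec.act ⟨b, hAn b hb⟩ (x • w₀ + y • e₁) - (x • w₀ + y • e₁) =
        x • (d.sec.act ⟨b, hAn b hb⟩ w₀ - w₀)
      rw [map_add, hlin b hb, hlin b hb, show d.sec.act ⟨b, hAn b hb⟩ e₁ = e₁ from hbe,
        add_sub_add_right_eq_sub, smul_sub]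
    obtain ⟨x, y, hxy⟩ := hspan (β w₀ - w₀)
    have hx : x = 0 := by
      have h1 := hlinN x y
      rw [← hxy, hquad b hb w₀, sub_self, eq_comm, smul_eq_zero] at h1
      rcases h1 with h1 | h1
      · exact h1
      · rw [h1] at hxy
        by_contra hx
        refine hw₀e (x⁻¹ * -y) ?_
        have h4 : x • w₀ = -(y • e₁) := eq_neg_of_add_eq_zero_left hxy.symm
        rw [mul_smul, neg_smul, ← h4, smul_smul, inv_mul_cancel₀ hx, one_smul]
    rw [hx, zero_smul, zero_add] at hxy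
    obtain ⟨x', y', rfl⟩ := hspan v
    exact ⟨x' * y, by rw [hlinN, hxy, smul_smul]⟩
  -- the image is the whole root group
  have hfull : ∀ c : K, ∃ b, ∃ hb : b ∈ A, d.sec.act ⟨b, hAn b hb⟩ w₀ - w₀ = c • e₁ := by
    set B := (A.subgroupOf d.sec.norm).map d.sec.perm with hB
    have hBc : ∀ f : ↥B, ∃ c : K, (f : Equiv.Perm (Fin 2 → K)) w₀ - w₀ = c • e₁ := by
      rintro ⟨_, b, hb, rfl⟩
      exact (hAL b hb).2 w₀
    choose φ hφ using hBc
    have hinj : Function.Injective φ := by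
      rintro ⟨_, b, hb, rfl⟩ ⟨_, b', hb', rfl⟩ hbb
      have e1 := hφ ⟨_, b, hb, rfl⟩
      have e2 := hφ ⟨_, b', hb', rfl⟩
      rw [hbb, ← e2, sub_left_inj] at e1
      refine Subtype.ext (Equiv.ext fun v => ?_)
      obtain ⟨x, y, rfl⟩ := hspan v
      change d.sec.act b _ = d.sec.act b' _
      change d.sec.act b w₀ = d.sec.act b' w₀ at e1
      have k1 := (hAL b hb).1
      have k2 := (hAL b' hb').1
      have l1 := hlin b hb
      have l2 := hlin b' hb'
      simp only [Subtype.coe_eta] at k1 k2 l1 l2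
      rw [map_add, map_add, l1, l1, l2, l2, k1, k2, e1]
    have hfixle : Nat.card {v : Fin 2 → K // ∀ b ∈ A.subgroupOf d.sec.norm, d.sec.act b v = v} ≤
        Nat.card K := by
      choose ψ hψ using fun v : {v : Fin 2 → K // ∀ b ∈ A.subgroupOf d.sec.norm, d.sec.act b v = v} =>
        hfix v.1 (v.2 ⟨a, hAn a ha⟩ ha)
      exact Nat.card_le_card_of_injective ψ fun v v' e => Subtype.ext (by rw [hψ v, hψ v', e])
    have hoff := d.offender_card hE hA hXT hAE
    have hq : Nat.card K ≤ Nat.card ↥B := by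
      refine Nat.le_of_mul_le_mul_left ?_ (Nat.card_pos (α := K))
      calc Nat.card K * Nat.card K = Nat.card (Fin 2 → K) := by
            rw [natCard_fin_two, Nat.card_eq_fintype_card, pow_two]
        _ ≤ _ := hoff.trans (Nat.mul_le_mul hfixle le_rfl)
    have hbij := (Nat.bijective_iff_injective_and_card φ).2
      ⟨hinj, le_antisymm (Nat.card_le_card_of_injective φ hinj) hq⟩
    intro c
    obtain ⟨⟨_, b, hb, rfl⟩, hb'⟩ := hbij.2 c
    refine ⟨b, hb, ?_⟩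
    rw [← hb']
    exact hφ ⟨_, b, hb, rfl⟩
  -- the image of the module of `F`
  let W : AddSubgroup (Fin 2 → K) :=
    { carrier := {v | ∃ u : ↥(x1 p E), (u : G) ∈ x1 p F ∧ d.sec.v u = v}
      zero_mem' := ⟨1, one_mem _, d.sec.v_eq_zero.2 (one_mem _)⟩
      add_mem' := by
        rintro _ _ ⟨u, hu, rfl⟩ ⟨u', hu', rfl⟩
        exact ⟨u * u', mul_mem hu hu', d.sec.v_mul u u'⟩
      neg_mem' := by
        rintro _ ⟨u, hu, rfl⟩
        exact ⟨u⁻¹, inv_mem hu, d.sec.v_inv u⟩ }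
  have hWinv : ∀ g (hgE : g ∈ normalizer (E : Set G)), g ∈ normalizer (F : Set G) → ∀ v ∈ W,
      d.sec.act ⟨g, mem_norm_x hgE⟩ v ∈ W := by
    rintro g hgE hgF _ ⟨u, hu, rfl⟩
    exact ⟨d.sec.cj ⟨g, mem_norm_x hgE⟩ u, conj_mem_of_normalizer (le_normalizer_x1 F hgF) hu,
      (d.sec.act_v _ u).symm⟩
  have hWsub : ∀ {v : Fin 2 → K}, v ∈ W → ∀ b (hb : b ∈ A),
      d.sec.act ⟨b, hAn b hb⟩ v - v ∈ W := fun hv b hb =>
    W.sub_mem (hWinv b (hAE hb) (hAF hb) _ hv) hv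
  obtain ⟨v₀, hv₀, hv₀L⟩ : ∃ v ∈ W, ∀ c : K, v ≠ c • e₁ := by
    by_contra hno
    push Not at hno
    refine hAX fun b hb => centralizes_of_triv hF (hAF hb) fun u hu => ⟨?_, ?_⟩
    · exact (x1 p F).mul_mem (conj_mem_of_normalizer (le_normalizer_x1 F (hAF hb)) hu) ((x1 p F).inv_mem hu)
    obtain ⟨c, hc⟩ := hno _ ⟨⟨u, hXX hu⟩, hu, rfl⟩
    have h1 : d.sec.act ⟨b, hAn b hb⟩ (d.sec.v ⟨u, hXX hu⟩) = d.sec.v ⟨u, hXX hu⟩ := by
      rw [hc, hlin b hb, (hAL b hb).1]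
    rw [d.sec.act_v, eq_comm, d.sec.v_eq_iff] at h1
    have h3 : b * u * b⁻¹ * u⁻¹ ∈ x0 p E := h1
    -- the moved part is fixed by the `p'`-elements of `F`
    suffices hle : x1 p F ⊓ x0 p E ≤ x0 p F from
      (hle ⟨(x1 p F).mul_mem (conj_mem_of_normalizer (le_normalizer_x1 F (hAF hb)) hu) ((x1 p F).inv_mem hu), h3⟩).2
    have hn : F ≤ normalizer (((x1 p F ⊓ x0 p E) ⊔ x0 p F : Subgroup G) : Set G) := fun g hg => by
      rw [mem_normalizer_iff_cj, Subgroup.map_sup,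
        mem_normalizer_iff_cj.1 (normalizer_le_normalizer_inf
          ⟨le_normalizer_x1 F (le_normalizer hg), le_normalizer_x0 E (hFE hg)⟩),
        mem_normalizer_iff_cj.1 (le_normalizer_x0 F (le_normalizer hg))]
    rcases (nat_x1 hF).irreducible le_sup_right (sup_le inf_le_left inf_le_left) hn with h4 | h4
    · exact le_sup_left.trans h4
    · exfalso
      have hXc : x1 p F ≤ x0 p E := h4.trans (sup_le inf_le_right h00)
      refine not_le_x0 hF fun x hx => Subgroup.mem_centralizer_iff.2 fun f hf => ?_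
      have hfc : f ∈ centralizer (x1 p E : Set G) := centralizes_of_triv hE (hFE hf) fun y hy =>
        hXc (commutator_vG_le hF (Subgroup.commutator_mem_commutator hf (x1_le_vG hE hG hy)))
      exact (Subgroup.mem_centralizer_iff.1 hfc x (hXX hx)).symm
  obtain ⟨x₀, y₀, hxy₀⟩ := hspan v₀
  have hx₀ : x₀ ≠ 0 := fun h => hv₀L y₀ (by rw [hxy₀, h, zero_smul, zero_add])
  have hLW : ∀ c : K, c • e₁ ∈ W := by
    intro c
    obtain ⟨b, hb, hbc⟩ := hfull (x₀⁻¹ * c)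
    have h1 := hWsub hv₀ b hb
    have h3 : d.sec.act ⟨b, hAn b hb⟩ v₀ - v₀ = c • e₁ := by
      rw [hxy₀, map_add, hlin b hb, hlin b hb, (hAL b hb).1, add_sub_add_right_eq_sub, ← smul_sub,
        hbc, smul_smul, ← mul_assoc, mul_inv_cancel₀ hx₀, one_mul]
    rwa [h3] at h1
  -- some element of `F` moves the line
  obtain ⟨f, hf, hfL⟩ : ∃ f, ∃ hf : f ∈ F, ∀ c : K,
      d.sec.act ⟨f, mem_norm_x (hFE hf)⟩ e₁ ≠ c • e₁ := by
    by_contra hno
    push Not at hno
    let S : Subgroup G :=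
      { carrier := {u | ∃ hu : u ∈ x1 p F, ∃ c : K, d.sec.v ⟨u, hXX hu⟩ = c • e₁}
        one_mem' := ⟨one_mem _, 0, by rw [zero_smul]; exact d.sec.v_eq_zero.2 (one_mem _)⟩
        mul_mem' := by
          rintro u u' ⟨hu, c, hc⟩ ⟨hu', c', hc'⟩
          refine ⟨mul_mem hu hu', c + c', ?_⟩
          rw [add_smul, ← hc, ← hc', ← d.sec.v_mul]
          rfl
        inv_mem' := by
          rintro u ⟨hu, c, hc⟩
          refine ⟨inv_mem hu, -c, ?_⟩
          rw [neg_smul, ← hc, ← d.sec.v_inv]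
          rfl }
    have hx0S : x0 p F ≤ S := fun u hu =>
      ⟨hu.1, 0, by rw [zero_smul]; exact d.sec.v_eq_zero.2 (h00 hu)⟩
    have hFS : F ≤ normalizer (S : Set G) := fun g hg => by
      refine mem_normalizer_of_conj_mem fun u hu => ?_
      obtain ⟨hu', c, hc⟩ := hu
      obtain ⟨s, hs⟩ := d.semilinear hco ⟨g, mem_norm_x (hFE hg)⟩ (hFE hg)
      obtain ⟨c', hc'⟩ := hno g hg
      refine ⟨conj_mem_of_normalizer (le_normalizer_x1 F (le_normalizer hg)) hu', s c * c', ?_⟩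
      rw [mul_smul, ← hc', ← hs, ← hc, d.sec.act_v]
      rfl
    rcases (nat_x1 hF).irreducible hx0S (fun u hu => hu.1) hFS with h4 | h4
    · obtain ⟨u, hu, hue⟩ := hLW 1
      have h5 := h00 (h4 ⟨hu, 1, hue⟩)
      rw [one_smul, d.sec.v_eq_zero.2 h5] at hue
      exact he₁0 hue.symm
    · obtain ⟨u, hu, hue⟩ := hv₀
      obtain ⟨hu', c, hc⟩ := h4 hu
      exact hv₀L c (hue.symm.trans hc)
  intro w hw
  set v₁ := d.sec.act ⟨f, mem_norm_x (hFE hf)⟩ e₁
  obtain ⟨s, hs⟩ := d.semilinear hco ⟨f, mem_norm_x (hFE hf)⟩ (hFE hf)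
  have hsurj : Function.Surjective s := Finite.injective_iff_surjective.1 s.injective
  obtain ⟨x, y, hxy⟩ := exists_combination he₁0 hfL (d.sec.v ⟨w, hw⟩)
  obtain ⟨l, hl⟩ := hsurj x
  have h1 : d.sec.v ⟨w, hw⟩ ∈ W := by
    rw [hxy, ← hl, ← hs]
    exact W.add_mem (hWinv f (hFE hf) (le_normalizer hf) _ (hLW l)) (hLW y)
  obtain ⟨u, hu, hue⟩ := h1
  exact ⟨u, hu, d.sec.v_eq_iff.1 hue⟩

end CfsgLib.Baumann
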